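import Groth.Agent.SGA7Aut29.Split
import Groth.Agent.S3030
import Groth.Agent.S3293
import Groth.Agent.AlgGrpLib.AffineCriterion
import Groth.Agent.DimLib.Zero
import Groth.Agent.AlgGrpLib.ImageSubgroup
import Groth.Agent.Et18.Descent

/-!
# Anti-affine groups are divisible
-/

set_option autoImplicit false
set_option linter.style.haveILetI false
set_option backward.isDefEq.respectTransparency.types false

universe u

open CategoryTheory CategoryTheory.Limits MonoidalCategory CartesianMonoidalCategory MonObj GrpObj AlgebraicGeometry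
open TopologicalSpace

namespace Groth.Agent.SGA7Aut29

variable {k : Type u} [Field k]

section AlgClosed

variable [IsAlgClosed k] (M : Over (Spec (CommRingCat.of k))) [GrpObj M] [IsCommMonObj M] [Smooth M.hom]
  [ConnectedSpace M.left]

theorem surjective_pow_prime_of_antiAffine (hM : Function.Bijective M.hom.appTop) {ℓ : ℕ} (hℓ : ℓ.Prime) :
    Surjective ((𝟙 M : M ⟶ M) ^ ℓ).left := by
  haveI := quasiCompact_of_connected M
  let f := (𝟙 M : M ⟶ M) ^ ℓ
  haveI : IsMonHom f := isMonHom_pow ℓ
  obtain ⟨I, gI, i, g, hi, hg, hci, hgi, hsur, hfl, hsm, hft, hqc⟩ := AlgGrpLib.ImageSubgroup.exists_image f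
  haveI : Mono i := Over.mono_of_mono_left _
  haveI : QuasiCompact i.left := inferInstance
  have hnormal : AlgGrp.IsNormalHom i := fun {T} x y => ⟨y, (mul_comm x (y ≫ i)).symm ▸ by rw [mul_inv_cancel_right]⟩
  obtain ⟨Q, gQ, p, hp, hpf, hps, hplfp, hker, hsepQ, hflQ, hsmQ⟩ := Groth.Agent.S3030.result k I M i hnormal
  haveI := hsmQ inferInstance
  haveI : QuasiCompact p.left := AlgGrpLib.quasiCompact_left _
  haveI : Epi p.left := Flat.epi_of_flat_of_surjective _
  haveI : Epi p := Over.epi_of_epi_left _
  haveI : ConnectedSpace Q.left := Function.Surjective.connectedSpace (f := p.left.base) p.left.surjective p.left.continuous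
  haveI := quasiCompact_of_connected Q
  haveI : IsCommMonObj Q := by
    haveI : Surjective (p ⊗ₘ p).left :=
      MorphismProperty.pullbackMap (P := @Surjective) hps hps (Over.w p).symm (Over.w p).symm
    haveI : Flat (p ⊗ₘ p).left :=
      MorphismProperty.pullbackMap (P := @Flat) hpf hpf (Over.w p).symm (Over.w p).symm
    haveI : QuasiCompact (p ⊗ₘ p).left :=
      MorphismProperty.pullbackMap (P := @QuasiCompact) ‹QuasiCompact p.left› ‹QuasiCompact p.left› (Over.w p).symm
        (Over.w p).symm
    haveI : Epi (p ⊗ₘ p).left := Flat.epi_of_flat_of_surjective _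
    haveI : Epi (p ⊗ₘ p) := Over.epi_of_epi_left _
    exact ⟨by rw [← cancel_epi (p ⊗ₘ p), BraidedCategory.braiding_naturality_assoc, ← IsMonHom.mul_hom,
      ← Category.assoc, IsCommMonObj.mul_comm]⟩
  have hkill : (𝟙 Q : Q ⟶ Q) ^ ℓ = 1 := by
    rw [← cancel_epi p, comp_pow_id, MonObj.comp_one, ← Category.id_comp p, ← AbCubeLib.pow_comp_hom,
      show (𝟙 M : M ⟶ M) ^ ℓ = g ≫ i from hgi.symm, Category.assoc, AlgGrpLib.kernel_comp hker, MonObj.comp_one]
  haveI : IsIntegral Q.left := SGA3cLib.SmoothPure.isIntegral_of_smooth_connected Q.hom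
  haveI := AbVarLib.geometricallyIntegral_of_isAlgClosed Q.hom
  haveI := isAffine_of_pow_eq_one hℓ.two_le hkill
  have hp1 : p = 1 := AlgGrpLib.AffineHull.eq_one_of_isAffine hM p
  haveI : Subsingleton ↥(Spec (CommRingCat.of k)) := inferInstanceAs (Subsingleton (PrimeSpectrum k))
  haveI : Subsingleton Q.left := ⟨fun a b => by
    obtain ⟨x, rfl⟩ := p.left.surjective a
    obtain ⟨y, rfl⟩ := p.left.surjective b
    rw [hp1, show (1 : M ⟶ Q) = toUnit M ≫ η[Q] from rfl, Over.comp_left, Scheme.Hom.comp_apply, Scheme.Hom.comp_apply]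
    exact congrArg _ (Subsingleton.elim (α := ↥(Spec (CommRingCat.of k))) _ _)⟩
  haveI : Surjective η[Q].left := ⟨fun q => ⟨IsLocalRing.closedPoint k, Subsingleton.elim _ _⟩⟩
  haveI : Surjective i.left :=
    MorphismProperty.of_isPullback (P := @Surjective) (hker.map (Over.forget _)).flip ‹_›
  show Surjective f.left
  rw [← hgi, Over.comp_left]
  infer_instance

theorem surjective_pow_of_antiAffine (hM : Function.Bijective M.hom.appTop) {n : ℕ} (hn : 0 < n) :
    Surjective ((𝟙 M : M ⟶ M) ^ n).left := by
  induction n using Nat.recOnMul with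
  | zero => omega
  | one => rw [pow_one]; infer_instance
  | prime p hp => exact surjective_pow_prime_of_antiAffine M hM hp
  | mul a b iha ihb =>
    haveI := iha (pos_of_mul_pos_left hn (Nat.zero_le _))
    haveI := ihb (pos_of_mul_pos_right hn (Nat.zero_le _))
    rw [pow_mul, ← comp_pow_id, Over.comp_left]
    infer_instance

end AlgClosed

/-- A surjective homomorphism from a smooth connected group to itself is finite. -/
theorem isFinite_of_surjective (G : Over (Spec (CommRingCat.of k))) [GrpObj G] [IsCommMonObj G] [Smooth G.hom] [ConnectedSpace G.left]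
    (f : G ⟶ G) [IsMonHom f] [Surjective f.left] : IsFinite f.left := by
  haveI := quasiCompact_of_connected G
  haveI : IsSeparated G.hom := SGA3xLib.isSeparated_of_grpObj G
  haveI : GeometricallyReduced G.hom := AbSchLib.geometricallyReduced_of_smooth G.hom
  haveI := (Groth.Agent.S7800.result G G f).1
  haveI : QuasiCompact f.left := AlgGrpLib.quasiCompact_left _
  haveI : IsIntegral G.left := SGA3cLib.SmoothPure.isIntegral_of_smooth_connected G.hom
  haveI : LocallyOfFiniteType (f.left ≫ G.hom) := by rw [Over.w]; infer_instance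
  have hk := isKernel_fst f
  haveI : IsClosedImmersion η[G].left := SGA3xLib.isClosedImmersion_of_section G.hom _ (Over.w η[G])
  let i := pullback.fst f η[G]
  haveI : IsClosedImmersion i.left :=
    MorphismProperty.of_isPullback (hk.map (Over.forget _)).flip ‹IsClosedImmersion η[G].left›
  haveI : LocallyOfFiniteType (pullback f η[G]).hom := by rw [← Over.w i]; infer_instance
  haveI : QuasiCompact (pullback f η[G]).hom := by rw [← Over.w i]; infer_instance
  haveI : Subsingleton ↥(Spec (CommRingCat.of k)) := inferInstanceAs (Subsingleton (PrimeSpectrum k))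
  haveI : JacobsonSpace G.left := LocallyOfFiniteType.jacobsonSpace G.hom
  have he : IsClosed ({η[G].left.base (IsLocalRing.closedPoint k)} : Set G.left) := by
    have := η[G].left.isClosedEmbedding.isClosed_range
    convert this using 1
    ext x
    exact ⟨fun h => ⟨_, h.symm⟩, fun ⟨y, hy⟩ => hy.symm.trans (congrArg _ (Subsingleton.elim (α := ↥(Spec (CommRingCat.of k))) y _))⟩
  have hdim : ∀ z : G.left, DimLib.ptDim (f.left ≫ G.hom) z = DimLib.ptDim G.hom (f.left z) := fun z => by
    have h1 := DimLib.ptDim_apply_le G.hom f.left z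
    obtain ⟨z', -, hz', hd⟩ := DimLib.exists_lift_of_flat G.hom f.left (genericPoint_specializes (f.left z))
    have h2 := DimLib.ptDim_le_of_specializes (f.left ≫ G.hom) (genericPoint_specializes z')
    have h3 : DimLib.ptDim (f.left ≫ G.hom) (genericPoint G.left) = DimLib.ptDim G.hom (genericPoint G.left) := by
      simp only [Over.w]
    omega
  have hzero : topologicalKrullDim ↥(pullback f η[G]).left ≤ 0 := by
    rw [DimLib.topologicalKrullDim_eq_iSup (f := (pullback f η[G]).hom), iSup_le_iff]
    intro x
    have h1 : DimLib.ptDim (pullback f η[G]).hom x = DimLib.ptDim (f.left ≫ G.hom) (i.left x) := by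
      rw [show (pullback f η[G]).hom = i.left ≫ f.left ≫ G.hom by rw [Over.w, Over.w], DimLib.ptDim_comp_preimmersion]
    have h2 : f.left (i.left x) = η[G].left.base (IsLocalRing.closedPoint k) := by
      have h := congrArg (fun t : pullback f η[G] ⟶ G => t.left x) (pullback.condition (f := f) (g := η[G]))
      simp only [Over.comp_left, Scheme.Hom.comp_apply] at h
      exact h.trans (congrArg _ (Subsingleton.elim (α := ↥(Spec (CommRingCat.of k))) _ _))
    rw [h1, hdim, h2, (DimLib.ptDim_eq_zero_iff (f := G.hom) _).2 he]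
    simp
  have := Et18.descends_isFinite.{u}
  exact AbVarLib.of_kernel f i @IsFinite hk (DimLib.isFinite_of_dim_le_zero _ hzero)

/-- Over any field. -/
theorem surjective_pow_of_antiAffine_field (G : Over (Spec (CommRingCat.of k))) [GrpObj G] [IsCommMonObj G]
    [Smooth G.hom] [ConnectedSpace G.left]
    (hG : Function.Bijective (Red.bc (Spec.map (CommRingCat.ofHom (algebraMap k (AlgebraicClosure k)))) G).hom.appTop)
    {n : ℕ} (hn : 0 < n) : Surjective ((𝟙 G : G ⟶ G) ^ n).left := by
  let f := Spec.map (CommRingCat.ofHom (algebraMap k (AlgebraicClosure k)))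
  let G' := Red.bc f G
  haveI : Smooth G'.hom := MorphismProperty.pullback_snd G.hom f ‹_›
  haveI : GeometricallyConnected G.hom :=
    SGA3cLib.geometricallyConnected_of_rational_point k G.hom (𝟙 G.left) η[G].left (Over.w η[G]) (by simp)
  haveI : ConnectedSpace G'.left :=
    GeometricallyConnected.geometrically_connectedSpace (f := G.hom) f (pullback.fst _ _) (pullback.snd _ _)
      (IsPullback.of_hasPullback _ _)
  haveI : Surjective f := ⟨fun x => ⟨IsLocalRing.closedPoint _, Subsingleton.elim (α := PrimeSpectrum k) _ _⟩⟩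
  have hs := surjective_pow_of_antiAffine G' hG hn
  have hpow : (Over.pullback f).map ((𝟙 G : G ⟶ G) ^ n) = (𝟙 G' : G' ⟶ G') ^ n := by
    rw [show (Over.pullback f).map ((𝟙 G : G ⟶ G) ^ n) = ((Over.pullback f).map (𝟙 G)) ^ n from
      map_pow (Over.pullback f).homMonoidHom _ n, CategoryTheory.Functor.map_id]
  haveI : Surjective (pullback.fst G.hom f) := MorphismProperty.pullback_fst G.hom f ‹_›
  have hcomm : ((Over.pullback f).map ((𝟙 G : G ⟶ G) ^ n)).left ≫ pullback.fst G.hom f =
      pullback.fst G.hom f ≫ ((𝟙 G : G ⟶ G) ^ n).left := SGA3UnitSec.isPullback_map_left f _ |>.w.symm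
  rw [hpow] at hcomm
  haveI : Surjective (pullback.fst G.hom f ≫ ((𝟙 G : G ⟶ G) ^ n).left) := hcomm ▸ inferInstance
  exact Surjective.of_comp (pullback.fst G.hom f) _

end Groth.Agent.SGA7Aut29
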