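import Groth.Agent.SGA7Aut29.KilledP
import Groth.Agent.AlgGrpLib.ClosureSubgroup
import Groth.Agent.AlgGrpLib.ConnComp
import Groth.Agent.AbVarLib.MulIsogeny
import Groth.Agent.SGA3Power26.PowerCentral
import Groth.Agent.SGA3Homog26.Dominant
import Groth.Agent.UnipStruct.VecGroup
import Groth.Agent.S12181
import Groth.Agent.DimLib.Morphism
import Groth.Agent.AbCubeLib.EpiPow
import Groth.Agent.AbCubeLib.Subvariety
import Groth.Agent.AbCubeLib.KernelPhi
import Groth.Agent.AlgGrpLib.PointsProdField

/-!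
# Multiplication by `n` on a group without additive subgroup is surjective
-/

set_option autoImplicit false
set_option linter.style.haveILetI false
set_option backward.isDefEq.respectTransparency.types false

universe u

open CategoryTheory CategoryTheory.Limits MonoidalCategory CartesianMonoidalCategory MonObj GrpObj AlgebraicGeometry
open TopologicalSpace

namespace Groth.Agent.SGA7Aut29

variable {k : Type u} [Field k]

/-- A connected group scheme locally of finite type over a field is quasi-compact. -/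
theorem quasiCompact_of_connected (G : Over (Spec (CommRingCat.of k))) [GrpObj G] [LocallyOfFiniteType G.hom]
    [ConnectedSpace G.left] : QuasiCompact G.hom := by
  have h := AlgGrpLib.ConnComp.isCompact_component G
  rw [← AlgGrpLib.ConnComp.connectedComponent_eq, PreconnectedSpace.connectedComponent_eq_univ] at h
  haveI : CompactSpace G.left := ⟨h⟩
  exact HasAffineProperty.iff_of_isAffine.mpr ‹_›

/-- An endomorphism of a variety with a zero-dimensional non-empty fibre is dominant. -/
theorem denseRange_of_fibre {X : Scheme.{u}} (p : X ⟶ Spec (CommRingCat.of k)) [LocallyOfFiniteType p]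
    [IrreducibleSpace X] (f : X ⟶ X) (hf : f ≫ p = p) (x : X)
    (hfib : ∀ z, f z = f x → IsClosed ({z} : Set X)) : DenseRange f.base := by
  haveI : LocallyOfFiniteType (f ≫ p) := by rw [hf]; infer_instance
  have hle : ∀ z, f z = f x → DimLib.ptDim (f ≫ p) z = 0 := fun z hz =>
    (DimLib.ptDim_eq_zero_iff (f := f ≫ p) z).2 (hfib z hz)
  have hmin : ∀ z, genericPoint X ⤳ z → z ⤳ x → f z = f x → z = x := fun z _ hzx he =>
    DimLib.eq_of_specializes_of_ptDim_le (f ≫ p) hzx (by rw [hle z he]; exact Nat.zero_le _)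
  have h1 := DimLib.ptDim_add_le_of_minimal p f (genericPoint_specializes x) hmin
  have h2 := hle x rfl
  have h4 : DimLib.ptDim (f ≫ p) (genericPoint X) = DimLib.ptDim p (genericPoint X) := by simp only [hf]
  have he : genericPoint X = f (genericPoint X) :=
    DimLib.eq_of_specializes_of_ptDim_le p (genericPoint_specializes _) (by omega)
  intro b
  refine closure_mono (?_ : ({genericPoint X} : Set X) ⊆ Set.range f.base) (genericPoint_specializes b).mem_closure
  exact Set.singleton_subset_iff.2 ⟨genericPoint X, he.symm⟩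

theorem isMonHom_pow {S : Scheme.{u}} {G : Over S} [GrpObj G] [IsCommMonObj G] (m : ℕ) :
    IsMonHom ((𝟙 G : G ⟶ G) ^ m) := UnipStruct.isMonHom_pow_id m

theorem comp_pow_id {S : Scheme.{u}} {T G : Over S} [GrpObj G] (f : T ⟶ G) (m : ℕ) :
    f ≫ (𝟙 G : G ⟶ G) ^ m = f ^ m := by
  induction m with
  | zero => rw [_root_.pow_zero, _root_.pow_zero, MonObj.comp_one]
  | succ m ih => rw [pow_succ, pow_succ, MonObj.comp_mul, ih, Category.comp_id]

theorem isCommMonObj_of_mono {G H : Over (Spec (CommRingCat.of k))} [GrpObj G] [GrpObj H] [IsCommMonObj H]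
    (m : G ⟶ H) [IsMonHom m] [Mono m] : IsCommMonObj G where
  mul_comm := by
    rw [← cancel_mono m, Category.assoc, IsMonHom.mul_hom, ← BraidedCategory.braiding_naturality_assoc,
      IsCommMonObj.mul_comm]

section AlgClosed

variable [IsAlgClosed k]

local notation "𝟏" => (𝟙_ (Over (Spec (CommRingCat.of k))))

open AlgGrpLib (ptOf)

/-- The identity component of a smooth group over an algebraically closed field. -/
theorem exists_component (H : Over (Spec (CommRingCat.of k))) [GrpObj H] [Smooth H.hom] :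
    ∃ (U : Over (Spec (CommRingCat.of k))) (_ : GrpObj U) (i : U ⟶ H), IsMonHom i ∧ IsClosedImmersion i.left ∧
      Smooth U.hom ∧ ConnectedSpace U.left ∧ Set.range i.left.base = connectedComponent (AlgGrpLib.ConnComp.e₀ H) := by
  haveI : JacobsonSpace H.left := LocallyOfFiniteType.jacobsonSpace H.hom
  let C := connectedComponent (AlgGrpLib.ConnComp.e₀ H)
  have hone : ptOf (1 : 𝟏 ⟶ H) = AlgGrpLib.ConnComp.e₀ H := by
    rw [show (1 : 𝟏 ⟶ H) = η[H] by rw [Hom.one_def, toUnit_unique (toUnit _) (𝟙 _), Category.id_comp]]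
  let S : Subgroup (𝟏 ⟶ H) :=
    { carrier := {t | ptOf t ∈ C}
      one_mem' := by
        show ptOf (1 : 𝟏 ⟶ H) ∈ C
        rw [hone]; exact mem_connectedComponent
      mul_mem' := fun {a b} ha hb => by
        show ptOf (a * b) ∈ C
        rw [show C = irreducibleComponent (AlgGrpLib.ConnComp.e₀ H) from AlgGrpLib.ConnComp.connectedComponent_eq H,
          show a * b = lift a b ≫ μ[H] from Hom.mul_def _ _]
        refine AlgGrpLib.ConnComp.mul_mem H ((lift a b).left.base (IsLocalRing.closedPoint k)) ?_ ?_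
        · rw [← AlgGrpLib.ConnComp.connectedComponent_eq]
          show (lift a b ≫ fst H H).left.base (IsLocalRing.closedPoint k) ∈ _
          rw [lift_fst]; exact ha
        · rw [← AlgGrpLib.ConnComp.connectedComponent_eq]
          show (lift a b ≫ snd H H).left.base (IsLocalRing.closedPoint k) ∈ _
          rw [lift_snd]; exact hb
      inv_mem' := fun {a} ha => by
        show ptOf a⁻¹ ∈ C
        have h1 : a⁻¹ = a ≫ ι[H] := (Hom.inv_def a)
        have h2 : ptOf (1 : 𝟏 ⟶ H) = (ι[H]).left.base (ptOf (1 : 𝟏 ⟶ H)) := by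
          conv_lhs => rw [← inv_one, Hom.inv_def]
          rfl
        have h3 := (ι[H]).left.continuous.image_connectedComponent_subset (AlgGrpLib.ConnComp.e₀ H)
        rw [← hone, ← h2, hone] at h3
        rw [h1]
        exact h3 ⟨_, ha, rfl⟩ }
  obtain ⟨U, hU, i, hi, hci, hgr, hrange, -⟩ := AlgGrpLib.exists_closure_subgroup H S
  haveI := hgr
  haveI : LocallyOfFiniteType U.hom := by rw [← Over.w i]; infer_instance
  have hcl : closure (ptOf '' (S : Set _)) = C := by
    refine Set.Subset.antisymm (closure_minimal ?_ isClosed_connectedComponent) ?_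
    · rintro _ ⟨t, ht, rfl⟩; exact ht
    · refine (JacobsonSpace.closure_inter_closedPoints isClosed_connectedComponent).ge.trans (closure_mono ?_)
      rintro x ⟨hxC, hx⟩
      obtain ⟨t, rfl⟩ := AbCubeLib.exists_ptOf (mem_closedPoints_iff.1 hx)
      exact ⟨t, hxC, rfl⟩
  rw [hcl] at hrange
  refine ⟨U, hU, i, hi, hci, AbVarLib.smooth_of_geometricallyReduced U, ?_, hrange⟩
  haveI : Nonempty U.left := ⟨η[U].left.base (IsLocalRing.closedPoint k)⟩
  refine { toNonempty := inferInstance, isPreconnected_univ := (i.left.isEmbedding.isInducing.isPreconnected_image).1 ?_ }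
  rw [Set.image_univ, hrange]
  exact isPreconnected_connectedComponent

variable (G : Over (Spec (CommRingCat.of k))) [GrpObj G] [IsCommMonObj G] [Smooth G.hom] [ConnectedSpace G.left]

/-- On a smooth connected commutative group without additive subgroup, `[ℓ]` is surjective for every prime `ℓ`. -/
theorem surjective_pow_prime
    (hGa : ∀ j : Red.Ga (Spec (CommRingCat.of k)) ⟶ G, IsMonHom j → IsClosedImmersion j.left → False)
    {ℓ : ℕ} (hℓ : ℓ.Prime) : Surjective ((𝟙 G : G ⟶ G) ^ ℓ).left := by
  haveI := quasiCompact_of_connected G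
  haveI : JacobsonSpace G.left := LocallyOfFiniteType.jacobsonSpace G.hom
  haveI : IsIntegral G.left := SGA3cLib.SmoothPure.isIntegral_of_smooth_connected G.hom
  haveI := isMonHom_pow (G := G) ℓ
  haveI : QuasiCompact ((𝟙 G : G ⟶ G) ^ ℓ).left := AlgGrpLib.quasiCompact_left _
  refine SGA3Homog26.surjective_of_dominant ((𝟙 G : G ⟶ G) ^ ℓ) ?_
  by_cases hk : (ℓ : k) = 0
  case neg =>
    haveI := SGA3Power26.etale_of_isCommMonObj (G := G) (n := ℓ) hk
    have hopen : IsOpen (Set.range ((𝟙 G : G ⟶ G) ^ ℓ).left.base) :=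
      ((𝟙 G : G ⟶ G) ^ ℓ).left.isOpenMap.isOpen_range
    exact hopen.dense ⟨_, ⟨η[G].left.base (IsLocalRing.closedPoint k), rfl⟩⟩
  haveI : Fact ℓ.Prime := ⟨hℓ⟩
  haveI : CharP k ℓ := (CharP.charP_iff_prime_eq_zero hℓ).2 hk
  obtain ⟨H, hH, j, hj, hcj, hgr, hrange, hlift⟩ := AlgGrpLib.exists_closure_subgroup G
    (powMonoidHom (α := 𝟏 ⟶ G) ℓ).ker
  haveI := hgr
  haveI : LocallyOfFiniteType H.hom := by rw [← Over.w j]; infer_instance
  haveI : QuasiCompact H.hom := by rw [← Over.w j]; infer_instance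
  haveI := AbVarLib.smooth_of_geometricallyReduced H
  haveI : Mono j := Over.mono_of_mono_left _
  haveI : IsCommMonObj H := isCommMonObj_of_mono j
  haveI : IsReduced H.left := AbSchLib.isReduced_of_smooth H.hom
  haveI : IsReduced G.left := inferInstance
  haveI : G.hom |> IsSeparated := SGA3xLib.isSeparated_of_grpObj G
  haveI : IsSeparated H.hom := SGA3xLib.isSeparated_of_grpObj H
  -- `H` is killed by `ℓ`
  have hkill : (𝟙 H : H ⟶ H) ^ ℓ = 1 := by
    rw [← cancel_mono j, AbCubeLib.pow_comp_hom, Category.id_comp, MonObj.one_comp, ← comp_pow_id j ℓ]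
    haveI : LocallyOfFiniteType ((j ≫ (𝟙 G : G ⟶ G) ^ ℓ).left ≫ G.hom) := by rw [Over.w]; infer_instance
    refine Over.OverMorphism.ext (ext_of_apply_eq G.hom (f := (j ≫ (𝟙 G : G ⟶ G) ^ ℓ).left) (g := (1 : H ⟶ G).left)
      Set.univ isOpen_univ.isLocallyClosed dense_univ (fun x _ hx => ?_) (by rw [Over.w, Over.w]))
    obtain ⟨t, rfl⟩ := AbCubeLib.exists_ptOf hx
    have hmem : ptOf (t ≫ j) ∈ closure (ptOf '' ((powMonoidHom (α := 𝟏 ⟶ G) ℓ).ker : Set _)) :=
      hrange ▸ ⟨ptOf t, rfl⟩
    have hclosed : IsClosed {x : G.left | ((𝟙 G : G ⟶ G) ^ ℓ).left.base x = ptOf (1 : 𝟏 ⟶ G)} :=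
      (AbCubeLib.isClosed_point (1 : 𝟏 ⟶ G)).preimage ((𝟙 G : G ⟶ G) ^ ℓ).left.continuous
    have := closure_minimal (fun x hx => by
      obtain ⟨s, hs, rfl⟩ := hx
      show ptOf (s ≫ (𝟙 G : G ⟶ G) ^ ℓ) = _
      rw [comp_pow_id, show s ^ ℓ = 1 from hs]) hclosed hmem
    show ((𝟙 G : G ⟶ G) ^ ℓ).left.base (ptOf (t ≫ j)) = ptOf (t ≫ (1 : H ⟶ G))
    rw [MonObj.comp_one]
    exact this
  obtain ⟨U, hU, i, hi, hci, hsm, hconn, hUrange⟩ := exists_component H
  haveI : Mono i := Over.mono_of_mono_left _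
  haveI : IsCommMonObj U := isCommMonObj_of_mono i
  haveI : QuasiCompact U.hom := by rw [← Over.w i]; infer_instance
  haveI : IsIntegral U.left := SGA3cLib.SmoothPure.isIntegral_of_smooth_connected U.hom
  haveI := AbVarLib.geometricallyIntegral_of_isAlgClosed U.hom
  have hU1 : (𝟙 U : U ⟶ U) ^ ℓ = 1 := by
    rw [← cancel_mono i, AbCubeLib.pow_comp_hom, Category.id_comp, MonObj.one_comp, ← Category.comp_id i,
      ← comp_pow_id, Category.comp_id, hkill, MonObj.comp_one]
  haveI := isAffine_of_pow_eq_one hℓ.two_le hU1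
  have hpt : IsIso U.hom := by
    by_contra hne
    obtain ⟨a, ha, hca⟩ := UnipStruct.exists_Ga (p := ℓ) (G := U)
      (UnipStruct.killed_iff.2 ⟨1, by rwa [_root_.pow_one]⟩) hne
    obtain ⟨e, he, -⟩ := Groth.Agent.S12181.result ℓ (Spec (CommRingCat.of k))
    haveI := he; haveI := ha; haveI := hca
    haveI : IsMonHom e.inv := inferInstance
    haveI : IsClosedImmersion e.inv.left := inferInstance
    exact hGa (e.inv ≫ a ≫ i ≫ j) inferInstance (by simp only [Over.comp_left]; infer_instance)
  haveI : Subsingleton U.left := by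
    haveI := hpt
    haveI : Subsingleton ↥(Spec (CommRingCat.of k)) := inferInstanceAs (Subsingleton (PrimeSpectrum k))
    exact U.hom.homeomorph.injective.subsingleton
  have he0 : connectedComponent (AlgGrpLib.ConnComp.e₀ H) = {AlgGrpLib.ConnComp.e₀ H} := by
    refine Set.Subset.antisymm (fun x hx => ?_) (by simp [mem_connectedComponent])
    rw [← hUrange] at hx
    obtain ⟨y, rfl⟩ := hx
    obtain ⟨z, hz⟩ := hUrange.ge (mem_connectedComponent (x := AlgGrpLib.ConnComp.e₀ H))
    rw [Subsingleton.elim y z, hz]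
    rfl
  haveI : JacobsonSpace H.left := LocallyOfFiniteType.jacobsonSpace H.hom
  have hall : ∀ y : H.left, IsClosed ({y} : Set H.left) := fun y => by
    obtain ⟨v, hv1, hv⟩ := nonempty_inter_closedPoints (Z := closure {y}) ⟨y, subset_closure rfl⟩
      isClosed_closure.isLocallyClosed
    obtain ⟨t, rfl⟩ := AbCubeLib.exists_ptOf (mem_closedPoints_iff.1 hv)
    haveI := CohDer1.QP.isIso_mul_left (G := H) t
    haveI : IsIso ((toUnit H ≫ t) * 𝟙 H).left := inferInstanceAs (IsIso ((Over.forget _).map ((toUnit H ≫ t) * 𝟙 H)))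
    let τ := ((toUnit H ≫ t) * 𝟙 H).left.homeomorph
    have hτ : τ (AlgGrpLib.ConnComp.e₀ H) = ptOf t := by
      show ptOf (η[H] ≫ ((toUnit H ≫ t) * 𝟙 H)) = _
      rw [MonObj.comp_mul, ← Category.assoc, toUnit_unique (η[H] ≫ toUnit H) (𝟙 _), Category.id_comp,
        Category.comp_id, show η[H] = (1 : 𝟏 ⟶ H) by
          rw [Hom.one_def, toUnit_unique (toUnit _) (𝟙 _), Category.id_comp], _root_.mul_one]
    have hy : y ∈ connectedComponent (ptOf t) := by
      rw [← connectedComponent_eq (isIrreducible_singleton.closure.isPreirreducible.isPreconnected.subset_connectedComponent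
        (subset_closure rfl) hv1)]
      exact mem_connectedComponent
    have hy' : τ.symm y ∈ connectedComponent (AlgGrpLib.ConnComp.e₀ H) := by
      have := τ.symm.continuous.image_connectedComponent_subset (ptOf t) ⟨y, hy, rfl⟩
      rwa [← hτ, τ.symm_apply_apply] at this
    rw [he0, Set.mem_singleton_iff, τ.symm_apply_eq, hτ] at hy'
    rw [hy']; exact AbCubeLib.isClosed_point t
  refine denseRange_of_fibre G.hom _ (Over.w _) (η[G].left.base (IsLocalRing.closedPoint k)) fun z hz => ?_
  obtain ⟨y, rfl⟩ : z ∈ Set.range j.left.base := by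
    rw [hrange]
    have hcl : IsClosed {x : G.left | ((𝟙 G : G ⟶ G) ^ ℓ).left.base x =
        ((𝟙 G : G ⟶ G) ^ ℓ).left.base (η[G].left.base (IsLocalRing.closedPoint k))} :=
      (AbCubeLib.isClosed_point (η[G] ≫ (𝟙 G : G ⟶ G) ^ ℓ)).preimage ((𝟙 G : G ⟶ G) ^ ℓ).left.continuous
    refine (closure_mono ?_) ((JacobsonSpace.closure_inter_closedPoints hcl).ge hz)
    rintro x ⟨hx, hxc⟩
    obtain ⟨s, rfl⟩ := AbCubeLib.exists_ptOf (mem_closedPoints_iff.1 hxc)
    refine ⟨s, ?_, rfl⟩
    show s ^ ℓ = 1
    rw [← comp_pow_id]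
    refine AbCubeLib.point_ext (hx.trans ?_)
    show ptOf (η[G] ≫ (𝟙 G : G ⟶ G) ^ ℓ) = _
    rw [show η[G] = (1 : 𝟏 ⟶ G) by rw [Hom.one_def, toUnit_unique (toUnit _) (𝟙 _), Category.id_comp],
      comp_pow_id, one_pow]
  simpa using j.left.isClosedEmbedding.isClosedMap _ (hall y)

/-- On a smooth connected commutative group without additive subgroup, `[n]` is surjective. -/
theorem surjective_pow
    (hGa : ∀ j : Red.Ga (Spec (CommRingCat.of k)) ⟶ G, IsMonHom j → IsClosedImmersion j.left → False)
    {n : ℕ} (hn : 0 < n) : Surjective ((𝟙 G : G ⟶ G) ^ n).left := by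
  induction n using Nat.recOnMul with
  | zero => omega
  | one => rw [pow_one]; infer_instance
  | prime p hp => exact surjective_pow_prime G hGa hp
  | mul a b iha ihb =>
    haveI := iha (pos_of_mul_pos_left hn (Nat.zero_le _))
    haveI := ihb (pos_of_mul_pos_right hn (Nat.zero_le _))
    rw [pow_mul, ← comp_pow_id, Over.comp_left]
    infer_instance

end AlgClosed

/-- The same over an arbitrary field. -/
theorem surjective_pow_of_unipotentRankZero (G : Over (Spec (CommRingCat.of k))) [GrpObj G] [IsCommMonObj G]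
    [Smooth G.hom] [ConnectedSpace G.left] (hG : SGA7.FibresUnipotentRankZero G) {n : ℕ} (hn : 0 < n) :
    Surjective ((𝟙 G : G ⟶ G) ^ n).left := by
  let s : Spec (CommRingCat.of k) := IsLocalRing.closedPoint k
  let f := Red.geomPt s
  let G' := Red.geomFibre s G
  haveI : Smooth G'.hom := MorphismProperty.pullback_snd G.hom f ‹_›
  haveI : GeometricallyConnected G.hom :=
    SGA3cLib.geometricallyConnected_of_rational_point k G.hom (𝟙 G.left) η[G].left (Over.w η[G]) (by simp)
  haveI : ConnectedSpace G'.left :=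
    GeometricallyConnected.geometrically_connectedSpace (f := G.hom) f (pullback.fst _ _) (pullback.snd _ _)
      (IsPullback.of_hasPullback _ _)
  haveI : Surjective f := ⟨fun x => ⟨IsLocalRing.closedPoint _, Subsingleton.elim _ _⟩⟩
  have hs := surjective_pow G' (hG s) hn
  have hpow : ∀ m : ℕ, (Over.pullback f).map ((𝟙 G : G ⟶ G) ^ m) = (𝟙 G' : G' ⟶ G') ^ m := fun m => by
    induction m with
    | zero => rw [_root_.pow_zero, _root_.pow_zero]; exact Functor.map_one _
    | succ m ih => rw [pow_succ, pow_succ, Functor.map_mul, ih, CategoryTheory.Functor.map_id]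
  haveI : Surjective (pullback.fst G.hom f) := MorphismProperty.pullback_fst G.hom f ‹_›
  have hcomm : ((Over.pullback f).map ((𝟙 G : G ⟶ G) ^ n)).left ≫ pullback.fst G.hom f =
      pullback.fst G.hom f ≫ ((𝟙 G : G ⟶ G) ^ n).left := SGA3UnitSec.isPullback_map_left f _ |>.w.symm
  rw [hpow] at hcomm
  haveI : Surjective (pullback.fst G.hom f ≫ ((𝟙 G : G ⟶ G) ^ n).left) := hcomm ▸ inferInstance
  exact Surjective.of_comp (pullback.fst G.hom f) _

end Groth.Agent.SGA7Aut29
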