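import Groth.Agent.SGA7Aut29.PowSurj
import Groth.Agent.AlgGrpLib.ExactSeqBasics
import Groth.Agent.AlgGrpLib.KernelGrp
import Groth.Agent.S7800

/-!
# Dividing endomorphisms by `n`; splitting along an idempotent
-/

set_option autoImplicit false
set_option linter.style.haveILetI false
set_option backward.isDefEq.respectTransparency.types false

universe u

open CategoryTheory CategoryTheory.Limits MonoidalCategory CartesianMonoidalCategory MonObj GrpObj AlgebraicGeometry

namespace Groth.Agent.SGA7Aut29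

theorem isMonHom_mul {S : Scheme.{u}} {A B : Over S} [GrpObj A] [GrpObj B] [IsCommMonObj B] (f g : A ⟶ B)
    [IsMonHom f] [IsMonHom g] : IsMonHom (f * g) where
  one_hom := by
    rw [MonObj.comp_mul, IsMonHom.one_hom, IsMonHom.one_hom,
      show η[B] = (1 : 𝟙_ (Over S) ⟶ B) by rw [Hom.one_def, toUnit_unique (toUnit _) (𝟙 _), Category.id_comp],
      _root_.one_mul]
  mul_hom := by
    have hμ : ∀ {C : Over S} [GrpObj C], μ[C] = fst C C * snd C C := fun {C} _ => by
      rw [Hom.mul_def, lift_fst_snd, Category.id_comp]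
    rw [MonObj.comp_mul, hμ, MonObj.mul_comp, MonObj.mul_comp, hμ, MonObj.comp_mul, tensorHom_fst, tensorHom_snd,
      MonObj.comp_mul, MonObj.comp_mul, _root_.mul_mul_mul_comm]

variable {k : Type u} [Field k] {G : Over (Spec (CommRingCat.of k))} [GrpObj G] [IsCommMonObj G] [Smooth G.hom]
  [ConnectedSpace G.left]

theorem isKernel_fst {H : Over (Spec (CommRingCat.of k))} [GrpObj H] (f : G ⟶ H) :
    AlgGrp.IsKernel (pullback.fst f η[H]) f := by
  have h := IsPullback.of_hasPullback f η[H]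
  rwa [toUnit_unique (pullback.snd f η[H]) (toUnit _)] at h

/-- `[n]` is faithfully flat, quasi-compact and an epimorphism. -/
theorem fpqc_pow (hG : SGA7.FibresUnipotentRankZero G) {n : ℕ} (hn : 0 < n) :
    Flat ((𝟙 G : G ⟶ G) ^ n).left ∧ Surjective ((𝟙 G : G ⟶ G) ^ n).left ∧
      QuasiCompact ((𝟙 G : G ⟶ G) ^ n).left ∧ Epi ((𝟙 G : G ⟶ G) ^ n) := by
  haveI := quasiCompact_of_connected G
  haveI := surjective_pow_of_unipotentRankZero G hG hn
  haveI := isMonHom_pow (G := G) n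
  haveI : IsSeparated G.hom := SGA3xLib.isSeparated_of_grpObj G
  haveI : GeometricallyReduced G.hom := AbSchLib.geometricallyReduced_of_smooth G.hom
  haveI := (Groth.Agent.S7800.result G G ((𝟙 G : G ⟶ G) ^ n)).1
  haveI : QuasiCompact ((𝟙 G : G ⟶ G) ^ n).left := AlgGrpLib.quasiCompact_left _
  haveI : Epi ((𝟙 G : G ⟶ G) ^ n).left := Flat.epi_of_flat_of_surjective _
  exact ⟨inferInstance, inferInstance, inferInstance, Over.epi_of_epi_left _⟩

theorem isMonHom_of_comp (q v : G ⟶ G) [IsMonHom q] [Surjective q.left] [Flat q.left] [QuasiCompact q.left]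
    [IsMonHom (q ≫ v)] : IsMonHom v := by
  haveI : Surjective (q ⊗ₘ q).left :=
    MorphismProperty.pullbackMap (P := @Surjective) ‹Surjective q.left› ‹Surjective q.left› (Over.w q).symm (Over.w q).symm
  haveI : Flat (q ⊗ₘ q).left :=
    MorphismProperty.pullbackMap (P := @Flat) ‹Flat q.left› ‹Flat q.left› (Over.w q).symm (Over.w q).symm
  haveI : QuasiCompact (q ⊗ₘ q).left :=
    MorphismProperty.pullbackMap (P := @QuasiCompact) ‹QuasiCompact q.left› ‹QuasiCompact q.left› (Over.w q).symm (Over.w q).symm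
  haveI : Epi (q ⊗ₘ q).left := Flat.epi_of_flat_of_surjective _
  haveI : Epi (q ⊗ₘ q) := Over.epi_of_epi_left _
  refine ⟨?_, ?_⟩
  · rw [← IsMonHom.one_hom q, Category.assoc, IsMonHom.one_hom (q ≫ v), IsMonHom.one_hom q]
  · rw [← cancel_epi (q ⊗ₘ q), ← Category.assoc, ← IsMonHom.mul_hom, Category.assoc, IsMonHom.mul_hom, ← Category.assoc,
      MonoidalCategory.tensorHom_comp_tensorHom]

/-- An endomorphism killing the `n`-torsion is divisible by `n`. -/
theorem exists_pow_eq_of_kills (hG : SGA7.FibresUnipotentRankZero G) {n : ℕ} (hn : 0 < n) (f : G ⟶ G) [IsMonHom f]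
    (hf : ∀ (T : Over (Spec (CommRingCat.of k))) (x : T ⟶ G), x ^ n = 1 → x ≫ f = 1) :
    ∃ v : G ⟶ G, IsMonHom v ∧ v ^ n = f := by
  obtain ⟨hfl, hsu, hqc, hepi⟩ := fpqc_pow hG hn
  let q := (𝟙 G : G ⟶ G) ^ n
  haveI : IsMonHom q := isMonHom_pow n
  haveI : Flat q.left := hfl
  haveI : Surjective q.left := hsu
  haveI : QuasiCompact q.left := hqc
  have hk := isKernel_fst q
  obtain ⟨v, hv⟩ := AlgGrpLib.ExactSeqBasics.exists_desc q hk f (hf _ _ (by
    rw [← comp_pow_id]; exact AlgGrpLib.kernel_comp hk))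
  haveI : IsMonHom (q ≫ v) := by rw [hv]; infer_instance
  haveI : IsMonHom v := isMonHom_of_comp q v
  refine ⟨v, inferInstance, ?_⟩
  rw [← hv, AbCubeLib.pow_comp_hom, Category.id_comp]

/-- Powers of endomorphisms can be cancelled. -/
theorem eq_of_pow_eq (hG : SGA7.FibresUnipotentRankZero G) {n : ℕ} (hn : 0 < n) (f g : G ⟶ G) [IsMonHom f]
    [IsMonHom g] (h : f ^ n = g ^ n) : f = g := by
  obtain ⟨_, _, _, hepi⟩ := fpqc_pow hG hn
  rw [← cancel_epi ((𝟙 G : G ⟶ G) ^ n), AbCubeLib.pow_comp_hom, AbCubeLib.pow_comp_hom, Category.id_comp,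
    Category.id_comp, h]

/-- If `(f - 1)` squared kills the `4`-torsion and `f² = 1` then `f - 1` kills the `2`-torsion. -/
theorem kills_two_of_kills_four (hG : SGA7.FibresUnipotentRankZero G) (d : G ⟶ G) [IsMonHom d]
    (hdd : d ≫ d = (d ^ 2)⁻¹)
    (h : ∀ (T : Over (Spec (CommRingCat.of k))) (x : T ⟶ G), x ^ 4 = 1 → x ≫ d ≫ d = 1)
    (T : Over (Spec (CommRingCat.of k))) (x : T ⟶ G) (hx : x ^ 2 = 1) : x ≫ d = 1 := by
  obtain ⟨hfl, hsu, hqc, -⟩ := fpqc_pow hG (n := 2) (by omega)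
  let π := pullback.snd ((𝟙 G : G ⟶ G) ^ 2) x
  let y := pullback.fst ((𝟙 G : G ⟶ G) ^ 2) x
  have hy : y ^ 2 = π ≫ x := (comp_pow_id y 2).symm.trans pullback.condition
  have hsq := ((IsPullback.of_hasPullback ((𝟙 G : G ⟶ G) ^ 2) x).map (Over.forget _))
  haveI : Flat π.left := MorphismProperty.of_isPullback (P := @Flat) hsq hfl
  haveI : Surjective π.left := MorphismProperty.of_isPullback (P := @Surjective) hsq hsu
  haveI : QuasiCompact π.left := MorphismProperty.of_isPullback (P := @QuasiCompact) hsq hqc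
  haveI : Epi π.left := Flat.epi_of_flat_of_surjective _
  haveI : Epi π := Over.epi_of_epi_left _
  have h4 : y ^ 4 = 1 := by
    rw [show (4 : ℕ) = 2 * 2 from rfl, pow_mul, hy]
    rw [← MonObj.comp_pow, hx, MonObj.comp_one]
  have h5 := h _ y h4
  rw [hdd, GrpObj.comp_inv, inv_eq_one, MonObj.comp_pow, ← AbCubeLib.pow_comp_hom, hy, Category.assoc] at h5
  rw [← cancel_epi π, h5, MonObj.comp_one]

/-- An idempotent endomorphism splits the group. -/
theorem exists_splitting (p : G ⟶ G) [IsMonHom p] (hp : p ≫ p = p) :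
    ∃ (G₁ G₂ : Over (Spec (CommRingCat.of k))) (_ : GrpObj G₁) (_ : GrpObj G₂) (i₁ : G₁ ⟶ G) (i₂ : G₂ ⟶ G),
      IsMonHom i₁ ∧ IsMonHom i₂ ∧ IsClosedImmersion i₁.left ∧ IsClosedImmersion i₂.left ∧
      AlgGrp.IsKernel i₁ (𝟙 G * p⁻¹) ∧ AlgGrp.IsKernel i₂ p ∧
      ConnectedSpace ↥G₁.left ∧ ConnectedSpace ↥G₂.left ∧ IsIso ((i₁ ⊗ₘ i₂) ≫ μ[G]) := by
  let q := 𝟙 G * p⁻¹
  haveI : IsMonHom q := isMonHom_mul (𝟙 G) p⁻¹
  have hqp : q ≫ p = 1 := by
    simp only [q, MonObj.mul_comp, GrpObj.inv_comp, Category.id_comp, hp, mul_inv_cancel]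
  have hpq : p ≫ q = 1 := by
    simp only [q, MonObj.comp_mul, GrpObj.comp_inv, Category.comp_id, hp, mul_inv_cancel]
  have h1 := isKernel_fst q
  have h2 := isKernel_fst p
  obtain ⟨g₁, hi₁⟩ := AlgGrpLib.exists_grpObj_kernel q _ h1
  obtain ⟨g₂, hi₂⟩ := AlgGrpLib.exists_grpObj_kernel p _ h2
  letI := g₁
  letI := g₂
  let i₁ := pullback.fst q η[G]
  let i₂ := pullback.fst p η[G]
  haveI : IsSeparated G.hom := SGA3xLib.isSeparated_of_grpObj G
  haveI : IsClosedImmersion η[G].left := SGA3xLib.isClosedImmersion_of_section G.hom _ (Over.w η[G])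
  haveI hc₁ : IsClosedImmersion i₁.left :=
    MorphismProperty.of_isPullback (h1.map (Over.forget _)).flip ‹IsClosedImmersion η[G].left›
  haveI hc₂ : IsClosedImmersion i₂.left :=
    MorphismProperty.of_isPullback (h2.map (Over.forget _)).flip ‹IsClosedImmersion η[G].left›
  haveI : Mono i₁ := Over.mono_of_mono_left _
  haveI : Mono i₂ := Over.mono_of_mono_left _
  obtain ⟨c₁, hc1⟩ := AlgGrpLib.exists_lift_kernel h1 (g := p) hpq
  obtain ⟨c₂, hc2⟩ := AlgGrpLib.exists_lift_kernel h2 (g := q) hqp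
  have hi1p : i₁ ≫ p = i₁ := by
    have := AlgGrpLib.kernel_comp h1
    simp only [q, MonObj.comp_mul, GrpObj.comp_inv, Category.comp_id] at this
    exact (mul_inv_eq_one.1 this).symm
  have hi2p : i₂ ≫ p = 1 := AlgGrpLib.kernel_comp h2
  have hi2q : i₂ ≫ q = i₂ := by
    simp only [q, MonObj.comp_mul, GrpObj.comp_inv, Category.comp_id, hi2p, inv_one, _root_.mul_one]
  have conn : ∀ {H : Over (Spec (CommRingCat.of k))} (c : G ⟶ H) (i : H ⟶ G), i ≫ c = 𝟙 H →
      ConnectedSpace ↥H.left := fun {H} c i h => by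
    refine Function.Surjective.connectedSpace (f := c.left.base) (fun x => ⟨i.left.base x, ?_⟩) c.left.continuous
    rw [← Scheme.Hom.comp_apply, ← Over.comp_left, h]; rfl
  refine ⟨_, _, g₁, g₂, i₁, i₂, hi₁, hi₂, hc₁, hc₂, h1, h2, conn c₁ i₁ ?_, conn c₂ i₂ ?_, ?_⟩
  · rw [← cancel_mono i₁, Category.assoc, hc1, hi1p, Category.id_comp]
  · rw [← cancel_mono i₂, Category.assoc, hc2, hi2q, Category.id_comp]
  have hm : (i₁ ⊗ₘ i₂) ≫ μ[G] = (fst _ _ ≫ i₁) * (snd _ _ ≫ i₂) := by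
    rw [Hom.mul_def]
    congr 1
  refine ⟨lift c₁ c₂, ?_, ?_⟩
  · rw [hm]
    refine CartesianMonoidalCategory.hom_ext _ _ ?_ ?_
    · rw [Category.assoc, lift_fst, Category.id_comp, ← cancel_mono i₁, Category.assoc, hc1, MonObj.mul_comp,
        Category.assoc, Category.assoc, hi1p, hi2p, MonObj.comp_one, _root_.mul_one]
    · rw [Category.assoc, lift_snd, Category.id_comp, ← cancel_mono i₂, Category.assoc, hc2, MonObj.mul_comp,
        Category.assoc, Category.assoc, hi2q, show i₁ ≫ q = 1 from AlgGrpLib.kernel_comp h1, MonObj.comp_one,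
        _root_.one_mul]
  · rw [hm, MonObj.comp_mul, lift_fst_assoc, lift_snd_assoc, hc1, hc2]
    simp only [q]
    rw [mul_comm (𝟙 G), mul_inv_cancel_left]

end Groth.Agent.SGA7Aut29
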