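import Groth.Agent.CubeLib.CubeNoncomplete
import Groth.Agent.AbCubeLib.MulBy
import Groth.Agent.AmpleLib.Relative
import Groth.Agent.AmpleLib.Ample
import Groth.Agent.CohDer1.QP.Smooth
import Groth.Agent.AbVarLib.AlgClosedIntegral
import Groth.Agent.SGA3cLib.SmoothPure
import Groth.Agent.S3020

/-!
# A smooth connected group killed by `n ≥ 2` is affine

The theorem of the cube gives `[n]^* L = L^{n(n+1)/2} ⊗ (-1)^* L^{n(n-1)/2}`; if `[n] = 0` the
structure sheaf is ample, so the group is quasi-affine, hence affine.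
-/

set_option autoImplicit false
set_option linter.style.haveILetI false
set_option backward.isDefEq.respectTransparency.types false

universe u

open CategoryTheory CategoryTheory.Limits MonoidalCategory CartesianMonoidalCategory MonObj GrpObj AlgebraicGeometry
open Groth.Agent.PicLib Groth.Agent.AbCubeLib Groth.Agent.AmpleLib Groth.Agent.Coherent

namespace Groth.Agent.SGA7Aut29

variable {k : Type u} [Field k] [IsAlgClosed k] {G : Over (Spec (CommRingCat.of k))} [GrpObj G] [Smooth G.hom]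
  [QuasiCompact G.hom] [GeometricallyIntegral G.hom]

/-- The cubical relation on a group variety. -/
theorem cube_relation (a : PicM G.left) {V : Over (Spec (CommRingCat.of k))} (f g h : V ⟶ G) :
    pb (f * g * h) a * pb f a * pb g a * pb h a = pb (f * g) a * pb (f * h) a * pb (g * h) a := by
  let φ : G ⊗ (G ⊗ G) ⟶ G := fst G (G ⊗ G) * (snd G (G ⊗ G) ≫ fst G G) * (snd G (G ⊗ G) ≫ snd G G)
  have hφ : ∀ x y z : V ⟶ G, lift x (lift y z) ≫ φ = x * y * z := fun x y z => by
    simp only [φ, MonObj.comp_mul, lift_fst, lift_snd_assoc, lift_fst, lift_snd]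
  have h1 : toUnit V ≫ η[G] = (1 : V ⟶ G) := rfl
  have hc := CubeLib.cube_decomposition η[G] η[G] η[G] (pb φ a) f g h
  simp only [pb_pb, hφ, h1, _root_.mul_one, _root_.one_mul] at hc
  simpa only [_root_.mul_assoc] using hc

theorem pb_pow (a : PicM G.left) {V : Over (Spec (CommRingCat.of k))} (f : V ⟶ G) (n : ℕ) :
    pb (f ^ n) a = pb f a ^ (n + 1).choose 2 * pb f⁻¹ a ^ n.choose 2 := by
  suffices h : ∀ n : ℕ, pb (f ^ n) a = pb f a ^ (n + 1).choose 2 * pb f⁻¹ a ^ n.choose 2 ∧
      pb (f ^ (n + 1)) a = pb f a ^ (n + 2).choose 2 * pb f⁻¹ a ^ (n + 1).choose 2 from (h n).1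
  intro n
  induction n with
  | zero => refine ⟨?_, ?_⟩ <;> simp [AbCubeLib.pb_one]
  | succ n ih =>
    refine ⟨ih.2, (PicM.isUnit (pb (f ^ n) a)).mul_left_inj.1 ?_⟩
    have hc := cube_relation a (f ^ (n + 1)) f f⁻¹
    rw [mul_inv_cancel_right, mul_inv_cancel, AbCubeLib.pb_one, _root_.mul_one, ← pow_succ,
      show f ^ (n + 1) * f⁻¹ = f ^ n by rw [pow_succ, mul_inv_cancel_right], ih.2] at hc
    rw [← hc, ih.1]
    have e1 : (n + 3).choose 2 = (n + 2).choose 2 + (n + 2) := AbCubeLib.choose_two_succ (n + 2)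
    have e2 : (n + 2).choose 2 = (n + 1).choose 2 + (n + 1) := AbCubeLib.choose_two_succ (n + 1)
    have e3 : (n + 1).choose 2 = n.choose 2 + n := AbCubeLib.choose_two_succ n
    rw [show n + 1 + 1 = n + 2 from rfl, show n + 1 + 2 = n + 3 from rfl, e1, e2, e3]
    generalize pb f a = x, pb f⁻¹ a = y, n.choose 2 = c
    simp only [pow_add, pow_one, pow_succ]
    ac_rfl

/-- A group variety killed by `n ≥ 2` is affine. -/
theorem isAffine_of_pow_eq_one {n : ℕ} (hn : 2 ≤ n) (h : (𝟙 G : G ⟶ G) ^ n = 1) : IsAffine G.left := by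
  obtain ⟨L, hamp⟩ := CohDer1.QP.exists_ample_of_smooth (G := G)
  have hL : PicF.IsInvertible L := hamp.1
  haveI : CompactSpace G.left := hamp.2.1
  haveI : IsIso ((𝟙 G : G ⟶ G)⁻¹).left := inferInstanceAs (IsIso ((Over.forget _).map (ι[G])))
  have hamp' := isAmple_pullback_of_isEmbedding ((𝟙 G : G ⟶ G)⁻¹).left
    ((𝟙 G : G ⟶ G)⁻¹).left.homeomorph.isEmbedding hamp
  have hc1 : 0 < (n + 1).choose 2 := Nat.choose_pos (by omega)
  have hc2 : 0 < n.choose 2 := Nat.choose_pos hn
  have hM₁ := isInvertible_tensorPow hL ((n + 1).choose 2)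
  have hM₂ := isInvertible_tensorPow hamp'.1 (n.choose 2)
  have key := pb_pow (PicM.of hL) (𝟙 G) n
  rw [h, AbCubeLib.pb_one] at key
  have hid : pb (𝟙 G) (PicM.of hL) = PicM.of hL := by
    show PicM.pull (𝟙 G.left) _ = _
    rw [PicM.pull_id]
  rw [hid, pb, PicM.pull_of, ← PicM.of_tensorPow hL, ← PicM.of_tensorPow hamp'.1, PicM.of_mul] at key
  have hinv : ClSub.IsInverseOf (CohB1.tensorPow L ((n + 1).choose 2))
      (CohB1.tensorPow ((Scheme.Modules.pullback ((𝟙 G : G ⟶ G)⁻¹).left).obj L) (n.choose 2)) :=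
    (PicM.of_eq_one_iff _).1 key.symm
  haveI : G.left.IsQuasiAffine := isQuasiAffine_of_ample_inverse hinv
    ((isAmple_pow_iff hL _ hc1).2 hamp) ((isAmple_pow_iff hamp'.1 _ hc2).2 hamp')
  exact Groth.Agent.S3020.result k G

end Groth.Agent.SGA7Aut29
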